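import Cfsg.Agent.H0.Cover
import Cfsg.Agent.H0.ML29.D
set_option maxRecDepth 100000
set_option Elab.async false
set_option linter.unusedSectionVars false
namespace H0.VL293
open H0 BN 
noncomputable def n0 : Net := (Net.cons (nat_lit 16) (nat_lit 0x8000) (Net.cons (nat_lit 8) (nat_lit 0x800041) (Net.cons (nat_lit 4) (nat_lit 0x80f07) (Net.cons (nat_lit 2) (nat_lit 0x2311) (Net.cons (nat_lit 1) (nat_lit 0x11451) (Net.cons (nat_lit 2) (nat_lit 0x22202) (Net.cons (nat_lit 4) (nat_lit 0x80800) (Net.cons (nat_lit 8) (nat_lit 0x800008) (Net.cons (nat_lit 16) (nat_lit 0x8000) Net.nil)))))))))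
noncomputable def n1 : Net := (Net.cons (nat_lit 16) (nat_lit 0x8038) (Net.cons (nat_lit 8) (nat_lit 0x80002b) (Net.cons (nat_lit 4) (nat_lit 0x3040e) (Net.cons (nat_lit 2) (nat_lit 0x201323) (Net.cons (nat_lit 1) (nat_lit 0x100440) (Net.cons (nat_lit 2) (nat_lit 0x200) (Net.cons (nat_lit 4) (nat_lit 0x80008) (Net.cons (nat_lit 8) (nat_lit 0x800068) (Net.cons (nat_lit 16) (nat_lit 0x8038) Net.nil)))))))))
noncomputable def n2 : Net := (Net.cons (nat_lit 16) (nat_lit 0x8038) (Net.cons (nat_lit 8) (nat_lit 0x800096) (Net.cons (nat_lit 4) (nat_lit 0x30a01) (Net.cons (nat_lit 2) (nat_lit 0x311) (Net.cons (nat_lit 1) (nat_lit 0x14001) (Net.cons (nat_lit 2) (nat_lit 0x22000) (Net.cons (nat_lit 4) (nat_lit 0x80600) (Net.cons (nat_lit 8) (nat_lit 0x800094) (Net.cons (nat_lit 16) (nat_lit 0x8038) Net.nil)))))))))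
noncomputable def n3 : Net := (Net.cons (nat_lit 8) (nat_lit 0x2c) (Net.cons (nat_lit 4) (nat_lit 0x80c) (Net.cons (nat_lit 2) (nat_lit 0x3103) (Net.cons (nat_lit 1) (nat_lit 0x5010) (Net.cons (nat_lit 4) (nat_lit 0x80c) (Net.cons (nat_lit 8) (nat_lit 0x2c) Net.nil))))))
noncomputable def n4 : Net := (Net.cons (nat_lit 16) (nat_lit 0x81c0) (Net.cons (nat_lit 8) (nat_lit 0x43007e) (Net.cons (nat_lit 4) (nat_lit 0xc000e0f) (Net.cons (nat_lit 2) (nat_lit 0x3001020) (Net.cons (nat_lit 1) (nat_lit 0x1005010) (Net.cons (nat_lit 2) (nat_lit 0x20) (Net.cons (nat_lit 4) (nat_lit 0xc000c08) (Net.cons (nat_lit 8) (nat_lit 0xc20070) (Net.cons (nat_lit 16) (nat_lit 0x81c0) Net.nil)))))))))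
noncomputable def n5 : Net := (Net.cons (nat_lit 16) (nat_lit 0x81c0) (Net.cons (nat_lit 8) (nat_lit 0x10006) (Net.cons (nat_lit 4) (nat_lit 0xc0e03) (Net.cons (nat_lit 2) (nat_lit 0x32002) (Net.cons (nat_lit 1) (nat_lit 0x41005) (Net.cons (nat_lit 2) (nat_lit 0x2000) (Net.cons (nat_lit 4) (nat_lit 0xc0800) (Net.cons (nat_lit 8) (nat_lit 0x800010) (Net.cons (nat_lit 16) (nat_lit 0x81c0) Net.nil)))))))))
noncomputable def n6 : Net := (Net.cons (nat_lit 16) (nat_lit 0x5740) (Net.cons (nat_lit 8) (nat_lit 0x170080) (Net.cons (nat_lit 4) (nat_lit 0x401000e) (Net.cons (nat_lit 2) (nat_lit 0x2112030) (Net.cons (nat_lit 1) (nat_lit 0x4010001) (Net.cons (nat_lit 2) (nat_lit 0x2000000) (Net.cons (nat_lit 4) (nat_lit 0x400080e) (Net.cons (nat_lit 8) (nat_lit 0x540000) (Net.cons (nat_lit 16) (nat_lit 0x5740) Net.nil)))))))))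
noncomputable def n7 : Net := (Net.cons (nat_lit 16) (nat_lit 0x5740) (Net.cons (nat_lit 8) (nat_lit 0x30000) (Net.cons (nat_lit 4) (nat_lit 0x404080e) (Net.cons (nat_lit 2) (nat_lit 0x13022030) (Net.cons (nat_lit 1) (nat_lit 0x4040001) (Net.cons (nat_lit 2) (nat_lit 0x2020000) (Net.cons (nat_lit 4) (nat_lit 0x4000e) (Net.cons (nat_lit 8) (nat_lit 0x400080) (Net.cons (nat_lit 16) (nat_lit 0x5740) Net.nil)))))))))
noncomputable def n8 : Net := (Net.cons (nat_lit 16) (nat_lit 0x8000) (Net.cons (nat_lit 8) (nat_lit 0x8000c9) (Net.cons (nat_lit 4) (nat_lit 0x80802) (Net.cons (nat_lit 2) (nat_lit 0x22233) (Net.cons (nat_lit 1) (nat_lit 0x15540) (Net.cons (nat_lit 2) (nat_lit 0x20) (Net.cons (nat_lit 4) (nat_lit 0x80004) (Net.cons (nat_lit 8) (nat_lit 0x800092) (Net.cons (nat_lit 16) (nat_lit 0x8000) Net.nil)))))))))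
noncomputable def nl : List Net := [n0, n1, n2, n3, n4, n5, n6, n7, n8]
theorem nl_ok : allL (Net.ok (nat_lit 32)) nl = true := by decide +kernel
noncomputable def R : Rep := mkRep (nat_lit 5) (nat_lit 32) nl (by decide +kernel) nl_ok
def defs : List (List ℕ) := []
theorem R_ge : ∀ x, 9 + defs.length ≤ x → R.p x = 1 := fun _ hx => mkRep_ge hx
def J : List ℕ := [1, 0, 0, 0, 0, 0, 0, 0, 0, 2, 2, 1, 0, 2, 1, 2, 2, 2, 2, 1, 1, 1, 0, 0, 1]
def c : List ℕ := [0, 0, 0, 1, 0, 0, 0, 0, 0, 2, 0, 1, 0, 0, 0, 0, 0, 0, 0, 0, 0, 0, 0, 0, 0]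
def E : List (List ℕ × List ℕ) := covE 8 H0.ML29.B J
theorem c0 : pairsW R 0 5 ((E.drop 0).take 33) = true := by decide +kernel
theorem c1 : eqW R 0 R.lg [8, 8, 8] [] = true := by decide +kernel
theorem c2 : mapsP R [8] [0] [2] = true := by decide +kernel
end H0.VL293
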